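import Groth.Prelude.Def_GrSyz
import Mathlib

/-!
# The Hilbert function through a graded free resolution

The degree `d` parts of the terms of a graded free resolution form an exact sequence of finite
dimensional vector spaces, so the Hilbert function is the alternating sum of their dimensions.
-/

universe u
open scoped Classical
noncomputable section

namespace Groth.Agent.GrSyzHilb

section Proj

variable {R : Type*} [CommRing R] {σ' : Type*} [SetLike σ' R] {M : Type*} [AddCommGroup M] [Module R M]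
  {τ : Type*} [SetLike τ M] [AddSubgroupClass τ M] {A : ℤ → σ'} (ℳ : ℤ → τ)
  [DirectSum.Decomposition ℳ] [SetLike.GradedSMul A ℳ]

/-- The component of degree `n`. -/
def comp (n : ℤ) : M →+ M where
  toFun x := (DirectSum.decompose ℳ x n : M)
  map_zero' := by simp
  map_add' x y := by simp

lemma comp_mem (n : ℤ) (x : M) : comp ℳ n x ∈ ℳ n := (DirectSum.decompose ℳ x n).2

lemma comp_of_mem {n : ℤ} {x : M} (hx : x ∈ ℳ n) : comp ℳ n x = x := DirectSum.decompose_of_mem_same ℳ hx

omit [SetLike.GradedSMul A ℳ] in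
lemma comp_of_mem_ne {n j : ℤ} {x : M} (hx : x ∈ ℳ j) (h : j ≠ n) : comp ℳ n x = 0 :=
  DirectSum.decompose_of_mem_ne ℳ hx h

lemma comp_smul {e : ℤ} {r : R} (hr : r ∈ A e) (n : ℤ) (x : M) :
    comp ℳ n (r • x) = r • comp ℳ (n - e) x := by
  induction x using DirectSum.Decomposition.inductionOn ℳ with
  | zero => simp
  | @homogeneous j m =>
    have hm : r • (m : M) ∈ ℳ (e + j) := SetLike.GradedSMul.smul_mem hr m.2
    by_cases h : e + j = n
    · subst h
      rw [comp_of_mem ℳ hm, add_sub_cancel_left, comp_of_mem ℳ m.2]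
    · rw [comp_of_mem_ne ℳ hm h, comp_of_mem_ne ℳ m.2 (fun h' => h (by omega)), smul_zero]
  | add x y hx hy => simp only [smul_add, map_add, hx, hy]

end Proj

section Std

variable (k : Type u) [Field k] (r : ℕ)

/-- The exponents of degree `n`. -/
def monos (n : ℤ) : Set (Fin (r + 1) →₀ ℕ) := {d | Finsupp.weight (fun _ : Fin (r + 1) => (1 : ℤ)) d = n}

lemma weight_one (d : Fin (r + 1) →₀ ℕ) :
    Finsupp.weight (fun _ : Fin (r + 1) => (1 : ℤ)) d = ((∑ i, d i : ℕ) : ℤ) := by
  rw [Finsupp.weight_apply, Finsupp.sum_fintype]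
  · push_cast
    simp
  · simp

lemma monos_eq (n : ℤ) : monos r n =
    if 0 ≤ n then ↑((Finset.univ : Finset (Fin (r + 1))).finsuppAntidiag n.toNat) else ∅ := by
  ext d
  rw [monos, Set.mem_ofPred_eq, weight_one]
  split
  · rw [Finset.mem_coe, Finset.mem_finsuppAntidiag]
    show _ ↔ (∑ i, d i) = n.toNat ∧ _
    constructor
    · intro h
      exact ⟨by omega, Finset.subset_univ _⟩
    · rintro ⟨h, -⟩
      omega
  · simp only [Set.mem_empty_iff_false, iff_false]
    omega

/-- The dimension of the degree `n` part of the polynomial ring. -/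
lemma finrank_stdGr (n : ℤ) :
    (Module.finrank k (GrSyz.stdGr k (Fin (r + 1)) n) : ℤ) =
      if 0 ≤ n then ((Nat.choose (r + n.toNat) r : ℕ) : ℤ) else 0 := by
  have e : GrSyz.stdGr k (Fin (r + 1)) n = MvPolynomial.restrictSupport k (monos r n) :=
    MvPolynomial.weightedHomogeneousSubmodule_eq_finsupp_supported k _ n
  rw [e, Module.finrank_eq_nat_card_basis (MvPolynomial.basisRestrictSupport k (monos r n)), monos_eq]
  split
  · rw [SetLike.coe_sort_coe, Nat.card_eq_fintype_card, Fintype.card_coe,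
      Finset.card_finsuppAntidiag_nat_eq_choose, Finset.card_univ, Fintype.card_fin]
    congr 1
    rw [show r + 1 + n.toNat - 1 = r + n.toNat by omega, Nat.choose_symm_add]
  · simp

instance finite_stdGr (n : ℤ) : Module.Finite k (GrSyz.stdGr k (Fin (r + 1)) n) := by
  have e : GrSyz.stdGr k (Fin (r + 1)) n = MvPolynomial.restrictSupport k (monos r n) :=
    MvPolynomial.weightedHomogeneousSubmodule_eq_finsupp_supported k _ n
  rw [e]
  have : Finite (monos r n) := by rw [monos_eq]; split <;> infer_instance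
  exact Module.Finite.of_basis (MvPolynomial.basisRestrictSupport k (monos r n))

end Std

section Euler

variable {k : Type u} [Field k]

/-- The alternating sum of the dimensions in a finite exact sequence. -/
theorem finrank_eq_alternating_sum {P : ℕ → Type u} [∀ i, AddCommGroup (P i)] [∀ i, Module k (P i)]
    [∀ i, Module.Finite k (P i)] {M : Type u} [AddCommGroup M] [Module k M]
    (δ : ∀ i, P (i + 1) →ₗ[k] P i) (α : P 0 →ₗ[k] M) (hα : Function.Surjective α)
    (h0 : LinearMap.ker α = LinearMap.range (δ 0))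
    (hs : ∀ i, LinearMap.ker (δ i) = LinearMap.range (δ (i + 1)))
    (m : ℕ) (hm : Module.finrank k (P (m + 1)) = 0) :
    (Module.finrank k M : ℤ) = ∑ i ∈ Finset.range (m + 1), (-1 : ℤ) ^ i * (Module.finrank k (P i) : ℤ) := by
  have e0 := LinearMap.finrank_range_add_finrank_ker α
  rw [LinearMap.range_eq_top.mpr hα, finrank_top, h0] at e0
  have key : ∀ n, ∑ i ∈ Finset.range (n + 1), (-1 : ℤ) ^ i * (Module.finrank k (P i) : ℤ) =
      (Module.finrank k M : ℤ) + (-1) ^ n * (Module.finrank k (LinearMap.range (δ n)) : ℤ) := by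
    intro n
    induction n with
    | zero => simp [← e0]
    | succ n ih =>
      have e := LinearMap.finrank_range_add_finrank_ker (δ n)
      rw [hs n] at e
      rw [Finset.sum_range_succ, ih, ← e]
      push_cast
      ring
  have e := LinearMap.finrank_range_le (δ m)
  rw [hm] at e
  rw [key m, Nat.le_zero.mp e]
  simp

end Euler

section Main

variable {k : Type u} [Field k] {r : ℕ} {M : Type u} [AddCommGroup M] [Module k M]
  [Module (MvPolynomial (Fin (r + 1)) k) M] [IsScalarTower k (MvPolynomial (Fin (r + 1)) k) M]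
  {ℳ : ℤ → Submodule k M} [DirectSum.Decomposition ℳ]
  [SetLike.GradedSMul (GrSyz.stdGr k (Fin (r + 1))) ℳ]
  (F : GrSyz.FreeRes (GrSyz.stdGr k (Fin (r + 1))) ℳ)

/-- The degree `d` part of the `i`-th term. -/
def piece (i : ℕ) (d : ℤ) : Submodule k (Fin (F.rk i) → MvPolynomial (Fin (r + 1)) k) :=
  Submodule.pi Set.univ fun b => GrSyz.stdGr k (Fin (r + 1)) (d - F.deg i b)

lemma mem_piece {i : ℕ} {d : ℤ} {v : Fin (F.rk i) → MvPolynomial (Fin (r + 1)) k} :
    v ∈ piece F i d ↔ ∀ b, v b ∈ GrSyz.stdGr k (Fin (r + 1)) (d - F.deg i b) := by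
  simp [piece]

/-- A piece is a product of pieces of the polynomial ring. -/
def pieceEquiv (i : ℕ) (d : ℤ) :
    piece F i d ≃ₗ[k] ((b : Fin (F.rk i)) → GrSyz.stdGr k (Fin (r + 1)) (d - F.deg i b)) where
  toFun v b := ⟨v.1 b, (mem_piece F).mp v.2 b⟩
  invFun w := ⟨fun b => (w b).1, (mem_piece F).mpr fun b => (w b).2⟩
  map_add' _ _ := rfl
  map_smul' _ _ := rfl
  left_inv _ := rfl
  right_inv _ := rfl

instance (i : ℕ) (d : ℤ) : Module.Finite k (piece F i d) := Module.Finite.equiv (pieceEquiv F i d).symm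

lemma finrank_piece (i : ℕ) (d : ℤ) : (Module.finrank k (piece F i d) : ℤ) =
    ∑ b, if F.deg i b ≤ d then ((Nat.choose (r + (d - F.deg i b).toNat) r : ℕ) : ℤ) else 0 := by
  rw [(pieceEquiv F i d).finrank_eq, Module.finrank_pi_fintype, Nat.cast_sum]
  refine Finset.sum_congr rfl fun b _ => ?_
  rw [finrank_stdGr]
  exact if_congr sub_nonneg rfl rfl

lemma d_mem_piece {i : ℕ} {d : ℤ} {v : Fin (F.rk (i + 1)) → MvPolynomial (Fin (r + 1)) k}
    (hv : v ∈ piece F (i + 1) d) : F.dLin i v ∈ piece F i d := by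
  rw [mem_piece] at hv ⊢
  intro a
  rw [Matrix.mulVecLin_apply, Matrix.mulVec, dotProduct]
  refine sum_mem fun b _ => ?_
  have := SetLike.mul_mem_graded (F.d_mem i a b) (hv b)
  rwa [show F.deg (i + 1) b - F.deg i a + (d - F.deg (i + 1) b) = d - F.deg i a by ring] at this

lemma aug_mem_piece {d : ℤ} {v : Fin (F.rk 0) → MvPolynomial (Fin (r + 1)) k} (hv : v ∈ piece F 0 d) :
    F.augLin v ∈ ℳ d := by
  rw [mem_piece] at hv
  rw [Fintype.linearCombination_apply]
  refine sum_mem fun b _ => ?_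
  have := SetLike.GradedSMul.smul_mem (B := ℳ) (hv b) (F.aug_mem b)
  rwa [vadd_eq_add, sub_add_cancel] at this

/-- the homogeneous component of degree `d` of an element of a term -/
def trunc (i : ℕ) (d : ℤ) (v : Fin (F.rk i) → MvPolynomial (Fin (r + 1)) k) :
    Fin (F.rk i) → MvPolynomial (Fin (r + 1)) k :=
  fun b => comp (GrSyz.stdGr k (Fin (r + 1))) (d - F.deg i b) (v b)

lemma trunc_mem (i : ℕ) (d : ℤ) (v) : trunc F i d v ∈ piece F i d :=
  (mem_piece F).mpr fun _ => comp_mem _ _ _

lemma trunc_of_mem {i : ℕ} {d : ℤ} {v} (hv : v ∈ piece F i d) : trunc F i d v = v :=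
  funext fun b => comp_of_mem _ ((mem_piece F).mp hv b)

lemma trunc_d (i : ℕ) (d : ℤ) (w) : trunc F i d (F.dLin i w) = F.dLin i (trunc F (i + 1) d w) := by
  funext a
  simp only [trunc, Matrix.mulVecLin_apply, Matrix.mulVec, dotProduct, map_sum]
  refine Finset.sum_congr rfl fun b _ => ?_
  rw [← smul_eq_mul, comp_smul (A := GrSyz.stdGr k (Fin (r + 1))) _ (F.d_mem i a b), smul_eq_mul]
  congr 2
  ring

lemma comp_aug (d : ℤ) (w) : comp ℳ d (F.augLin w) = F.augLin (trunc F 0 d w) := by
  simp only [Fintype.linearCombination_apply, map_sum, trunc]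
  refine Finset.sum_congr rfl fun b _ => ?_
  induction w b using DirectSum.Decomposition.inductionOn (GrSyz.stdGr k (Fin (r + 1))) with
  | zero => simp
  | @homogeneous j m =>
    have hm : (m : MvPolynomial (Fin (r + 1)) k) • F.aug b ∈ ℳ (j + F.deg 0 b) :=
      SetLike.GradedSMul.smul_mem m.2 (F.aug_mem b)
    by_cases h : j + F.deg 0 b = d
    · rw [comp_of_mem ℳ (h ▸ hm), show d - F.deg 0 b = j by omega,
        comp_of_mem _ m.2]
    · rw [comp_of_mem_ne ℳ hm h, comp_of_mem_ne _ m.2 (fun h' => h (by omega)), zero_smul]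
  | add x y hx hy => simp only [add_smul, map_add, hx, hy]

/-- The differential on the pieces. -/
def δ (d : ℤ) (i : ℕ) : piece F (i + 1) d →ₗ[k] piece F i d :=
  ((F.dLin i).restrictScalars k).restrict fun _ hv => d_mem_piece F hv

/-- The augmentation on the pieces. -/
def α (d : ℤ) : piece F 0 d →ₗ[k] ℳ d :=
  ((F.augLin).restrictScalars k).restrict fun _ hv => aug_mem_piece F hv

/-- The Hilbert function is the alternating sum of the binomials of the resolution. -/
theorem finrank_eq (m : ℕ) (hF : F.HasLengthLE m) (d : ℤ) :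
    (Module.finrank k (ℳ d) : ℤ) = ∑ i ∈ Finset.range (m + 1), (-1 : ℤ) ^ i *
      ∑ b, (if F.deg i b ≤ d then ((Nat.choose (r + (d - F.deg i b).toNat) r : ℕ) : ℤ) else 0) := by
  simp only [← finrank_piece F]
  have hα : Function.Surjective (α F d) := by
    intro y
    obtain ⟨w, hw⟩ := F.aug_surjective (y : M)
    refine ⟨⟨trunc F 0 d w, trunc_mem F 0 d w⟩, Subtype.ext ?_⟩
    show F.augLin (trunc F 0 d w) = (y : M)
    rw [← comp_aug, show F.augLin w = (y : M) from hw, comp_of_mem ℳ y.2]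
  refine finrank_eq_alternating_sum (P := fun i => piece F i d) (δ F d) (α F d) hα ?_ (fun i => ?_) m ?_
  · apply le_antisymm
    · intro v hv
      have hv' : F.augLin v.1 = 0 := congr_arg Subtype.val (LinearMap.mem_ker.mp hv)
      obtain ⟨w, hw⟩ := F.exact_zero.le (LinearMap.mem_ker.mpr hv')
      refine ⟨⟨trunc F 1 d w, trunc_mem F 1 d w⟩, Subtype.ext ?_⟩
      show F.dLin 0 (trunc F 1 d w) = v.1
      rw [← trunc_d, show F.dLin 0 w = v.1 from hw, trunc_of_mem F v.2]
    · rintro v ⟨w, rfl⟩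
      exact Subtype.ext (LinearMap.mem_ker.mp (F.exact_zero.ge ⟨w.1, rfl⟩))
  · apply le_antisymm
    · intro v hv
      have hv' : F.dLin i v.1 = 0 := congr_arg Subtype.val (LinearMap.mem_ker.mp hv)
      obtain ⟨w, hw⟩ := (F.exact_succ i).le (LinearMap.mem_ker.mpr hv')
      refine ⟨⟨trunc F (i + 1 + 1) d w, trunc_mem F _ d w⟩, Subtype.ext ?_⟩
      show F.dLin (i + 1) (trunc F (i + 1 + 1) d w) = v.1
      rw [← trunc_d, show F.dLin (i + 1) w = v.1 from hw, trunc_of_mem F v.2]
    · rintro v ⟨w, rfl⟩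
      exact Subtype.ext (LinearMap.mem_ker.mp ((F.exact_succ i).ge ⟨w.1, rfl⟩))
  · have h : F.rk (m + 1) = 0 := hF _ (by omega)
    have : IsEmpty (Fin (F.rk (m + 1))) := by rw [h]; infer_instance
    rw [(pieceEquiv F (m + 1) d).finrank_eq]
    exact Module.finrank_zero_of_subsingleton

/-- The Hilbert polynomial. -/
theorem exists_polynomial (m : ℕ) (hF : F.HasLengthLE m) :
    ∃ P : Polynomial ℚ, ∀ d : ℤ, (∀ (i : ℕ) (b : Fin (F.rk i)), F.deg i b - (r : ℤ) ≤ d) →
      ((Module.finrank k (ℳ d) : ℤ) : ℚ) = P.eval (d : ℚ) := by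
  refine ⟨∑ i ∈ Finset.range (m + 1), Polynomial.C ((-1 : ℚ) ^ i) * ∑ b : Fin (F.rk i),
    Polynomial.C ((r.factorial : ℚ))⁻¹ *
      (descPochhammer ℚ r).comp (Polynomial.X + Polynomial.C ((r : ℚ) - (F.deg i b : ℚ))), fun d hd => ?_⟩
  rw [finrank_eq F m hF d]
  push_cast
  simp only [Polynomial.eval_finsetSum, Polynomial.eval_mul, Polynomial.eval_C, Polynomial.eval_comp,
    Polynomial.eval_add, Polynomial.eval_X]
  refine Finset.sum_congr rfl fun i _ => ?_
  congr 1
  refine Finset.sum_congr rfl fun b _ => ?_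
  have hn : ((((r : ℤ) + d - F.deg i b).toNat : ℕ) : ℚ) = (d : ℚ) + ((r : ℚ) - (F.deg i b : ℚ)) := by
    rw [← Int.cast_natCast, Int.toNat_of_nonneg (by have := hd i b; omega)]
    push_cast
    ring
  rw [← hn, inv_mul_eq_div, ← Nat.cast_choose_eq_descPochhammer_div]
  split
  · next h =>
    congr 2
    omega
  · next h =>
    have := hd i b
    rw [Nat.choose_eq_zero_of_lt (by omega)]
    simp

/-- The Hilbert function through the alternating Betti numbers, and back. -/
theorem finrank_eq_finsum_betti (m : ℕ) (hF : F.HasLengthLE m) :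
    (∀ d : ℤ, (Module.finrank k (ℳ d) : ℤ) =
      ∑ᶠ j : ℤ, (∑ i ∈ Finset.range (m + 1), (-1 : ℤ) ^ i * (F.betti i j : ℤ)) *
        (if j ≤ d then ((Nat.choose (r + (d - j).toNat) r : ℕ) : ℤ) else 0)) ∧
    ∀ j : ℤ, (∑ i ∈ Finset.range (m + 1), (-1 : ℤ) ^ i * (F.betti i j : ℤ)) =
      (Module.finrank k (ℳ j) : ℤ) - ∑ᶠ n : ℤ, (if n < j then
        (∑ i ∈ Finset.range (m + 1), (-1 : ℤ) ^ i * (F.betti i n : ℤ)) *
          ((Nat.choose (r + (j - n).toNat) r : ℕ) : ℤ) else 0) := by
  let J : Finset ℤ := (Finset.range (m + 1)).biUnion fun i => Finset.univ.image (F.deg i)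
  have hB : ∀ j ∉ J, (∑ i ∈ Finset.range (m + 1), (-1 : ℤ) ^ i * (F.betti i j : ℤ)) = 0 := by
    intro j hj
    refine Finset.sum_eq_zero fun i hi => ?_
    have : F.betti i j = 0 := by
      rw [GrSyz.FreeRes.betti, Finset.card_eq_zero, Finset.filter_eq_empty_iff]
      exact fun b _ h => hj (Finset.mem_biUnion.mpr ⟨i, hi, Finset.mem_image.mpr ⟨b, Finset.mem_univ _, h⟩⟩)
    simp [this]
  have h1 : ∀ d : ℤ, (Module.finrank k (ℳ d) : ℤ) =
      ∑ᶠ j : ℤ, (∑ i ∈ Finset.range (m + 1), (-1 : ℤ) ^ i * (F.betti i j : ℤ)) *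
        (if j ≤ d then ((Nat.choose (r + (d - j).toNat) r : ℕ) : ℤ) else 0) := by
    intro d
    rw [finsum_eq_sum_of_support_subset _ (s := J) (fun j hj => by
      by_contra h
      exact hj (by simp only [hB j h, zero_mul])), finrank_eq F m hF d]
    simp only [Finset.sum_mul]
    rw [Finset.sum_comm]
    refine Finset.sum_congr rfl fun i hi => ?_
    rw [← Finset.sum_fiberwise_of_maps_to (s := Finset.univ) (t := J) (g := F.deg i)
      (fun b _ => Finset.mem_biUnion.mpr ⟨i, hi, Finset.mem_image_of_mem _ (Finset.mem_univ b)⟩),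
      Finset.mul_sum]
    refine Finset.sum_congr rfl fun j _ => ?_
    rw [Finset.sum_congr rfl (g := fun _ => if j ≤ d then ((Nat.choose (r + (d - j).toNat) r : ℕ) : ℤ) else 0)
      (fun b hb => by rw [(Finset.mem_filter.mp hb).2]), Finset.sum_const, GrSyz.FreeRes.betti,
      nsmul_eq_mul, mul_assoc]
  refine ⟨h1, fun j => ?_⟩
  rw [h1 j, finsum_eq_sum_of_support_subset _ (s := insert j J) (fun n hn => by
      by_contra h
      exact hn (by simp only [hB n (fun h' => h (Finset.mem_insert_of_mem h')), zero_mul])),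
    finsum_eq_sum_of_support_subset _ (s := insert j J) (fun n hn => by
      by_contra h
      exact hn (by simp only [hB n (fun h' => h (Finset.mem_insert_of_mem h')), zero_mul, ite_self])),
    ← Finset.sum_sub_distrib, Finset.sum_eq_single j]
  · simp
  · intro n _ hn
    rcases lt_or_gt_of_ne hn with h | h
    · rw [if_pos h, if_pos h.le, sub_self]
    · rw [if_neg (by omega), if_neg (by omega), mul_zero, sub_zero]
  · simp

end Main

end Groth.Agent.GrSyzHilb
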